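/- A retract of a dualizable object is dualizable when idempotents split. -/
import Mathlib.CategoryTheory.Monoidal.Rigid.Basic
import Mathlib.CategoryTheory.Idempotents.Basic

set_option autoImplicit false

open CategoryTheory MonoidalCategory

universe v u

namespace Groth.Agent.MonoidalDual.Retract

variable {A : Type u} [Category.{v} A] [MonoidalCategory A] [IsIdempotentComplete A]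

theorem nonempty_hasRightDual {X X₁ : A} (i : X₁ ⟶ X) (p : X ⟶ X₁) (hip : i ≫ p = 𝟙 X₁)
    [HasRightDual X] : Nonempty (HasRightDual X₁) := by
  set e := p ≫ i with he
  have hee : e ≫ e = e := by simp [he, reassoc_of% hip]
  have hie : i ≫ e = i := by simp [he, reassoc_of% hip]
  have hd : eᘁ ≫ eᘁ = eᘁ := by rw [← comp_rightAdjointMate, hee]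
  obtain ⟨Y, j, q, hjq, hqj⟩ := IsIdempotentComplete.idempotents_split (Xᘁ) (eᘁ) hd
  have hdq : eᘁ ≫ q = q := by rw [← hqj, Category.assoc, hjq, Category.comp_id]
  refine ⟨@HasRightDual.mk A _ _ X₁ Y
    { coevaluation' := η_ X (Xᘁ) ≫ p ▷ Xᘁ ≫ X₁ ◁ q
      evaluation' := j ▷ X₁ ≫ (Xᘁ) ◁ i ≫ ε_ X (Xᘁ)
      coevaluation_evaluation' := ?_
      evaluation_coevaluation' := ?_ }⟩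
  · have h1 : η_ X (Xᘁ) ≫ p ▷ (Xᘁ) ≫ i ▷ (Xᘁ) ≫ X ◁ q = η_ X (Xᘁ) ≫ X ◁ q := by
      rw [← comp_whiskerRight_assoc, ← he, ← Category.assoc,
        ← coevaluation_comp_rightAdjointMate, Category.assoc, ← whiskerLeft_comp, hdq]
    calc Y ◁ (η_ X (Xᘁ) ≫ p ▷ Xᘁ ≫ X₁ ◁ q) ≫ (α_ _ _ _).inv ≫
          (j ▷ X₁ ≫ (Xᘁ) ◁ i ≫ ε_ X (Xᘁ)) ▷ Y
        = 𝟙 _ ⊗≫ Y ◁ η_ X (Xᘁ) ⊗≫ Y ◁ (p ▷ Xᘁ) ⊗≫ (Y ⊗ X₁) ◁ q ⊗≫ (j ▷ X₁) ▷ Y ⊗≫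
            (Xᘁ) ◁ (i ▷ Y) ⊗≫ ε_ X (Xᘁ) ▷ Y ⊗≫ 𝟙 _ := by monoidal
      _ = 𝟙 _ ⊗≫ Y ◁ η_ X (Xᘁ) ⊗≫ Y ◁ (p ▷ Xᘁ) ⊗≫ ((Y ⊗ X₁) ◁ q ≫ (j ▷ X₁) ▷ Y) ⊗≫
            (Xᘁ) ◁ (i ▷ Y) ⊗≫ ε_ X (Xᘁ) ▷ Y ⊗≫ 𝟙 _ := by monoidal
      _ = 𝟙 _ ⊗≫ Y ◁ η_ X (Xᘁ) ⊗≫ (Y ◁ (p ▷ Xᘁ) ≫ j ▷ (X₁ ⊗ Xᘁ)) ⊗≫
            (Xᘁ) ◁ (X₁ ◁ q ≫ i ▷ Y) ⊗≫ ε_ X (Xᘁ) ▷ Y ⊗≫ 𝟙 _ := by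
          rw [whisker_exchange]; monoidal
      _ = 𝟙 _ ⊗≫ (Y ◁ η_ X (Xᘁ) ≫ j ▷ (X ⊗ Xᘁ)) ⊗≫
            (Xᘁ) ◁ (p ▷ Xᘁ ≫ i ▷ (Xᘁ) ≫ X ◁ q) ⊗≫ ε_ X (Xᘁ) ▷ Y ⊗≫ 𝟙 _ := by
          rw [whisker_exchange, whisker_exchange]; monoidal
      _ = 𝟙 _ ⊗≫ j ▷ 𝟙_ A ⊗≫ (Xᘁ) ◁ (η_ X (Xᘁ) ≫ p ▷ Xᘁ ≫ i ▷ (Xᘁ) ≫ X ◁ q) ⊗≫
            ε_ X (Xᘁ) ▷ Y ⊗≫ 𝟙 _ := by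
          rw [whisker_exchange]; monoidal
      _ = 𝟙 _ ⊗≫ j ▷ 𝟙_ A ⊗≫ (Xᘁ) ◁ η_ X (Xᘁ) ⊗≫
            (((Xᘁ) ⊗ X) ◁ q ≫ ε_ X (Xᘁ) ▷ Y) ⊗≫ 𝟙 _ := by
          rw [h1]; monoidal
      _ = 𝟙 _ ⊗≫ j ▷ 𝟙_ A ⊗≫ ((Xᘁ) ◁ η_ X (Xᘁ) ⊗≫ ε_ X (Xᘁ) ▷ (Xᘁ)) ⊗≫
            (𝟙_ A) ◁ q ⊗≫ 𝟙 _ := by
          rw [whisker_exchange]; monoidal
      _ = 𝟙 _ ⊗≫ (j ≫ q) ⊗≫ 𝟙 _ := by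
          rw [ExactPairing.coevaluation_evaluation'']; monoidal
      _ = _ := by rw [hjq]; monoidal
  · have h1 : (eᘁ) ▷ X₁ ≫ (Xᘁ) ◁ i ≫ ε_ X (Xᘁ) = (Xᘁ) ◁ i ≫ ε_ X (Xᘁ) := by
      rw [← whisker_exchange_assoc, rightAdjointMate_comp_evaluation, ← whiskerLeft_comp_assoc,
        hie]
    calc (η_ X (Xᘁ) ≫ p ▷ Xᘁ ≫ X₁ ◁ q) ▷ X₁ ≫ (α_ _ _ _).hom ≫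
          X₁ ◁ (j ▷ X₁ ≫ (Xᘁ) ◁ i ≫ ε_ X (Xᘁ))
        = 𝟙 _ ⊗≫ η_ X (Xᘁ) ▷ X₁ ⊗≫ p ▷ ((Xᘁ) ⊗ X₁) ⊗≫
            X₁ ◁ ((q ≫ j) ▷ X₁ ≫ (Xᘁ) ◁ i ≫ ε_ X (Xᘁ)) := by monoidal
      _ = 𝟙 _ ⊗≫ η_ X (Xᘁ) ▷ X₁ ⊗≫ (p ▷ ((Xᘁ) ⊗ X₁) ≫ X₁ ◁ ((Xᘁ) ◁ i ≫ ε_ X (Xᘁ))) ⊗≫
            𝟙 _ := by
          rw [hqj, h1]; monoidal
      _ = 𝟙 _ ⊗≫ (η_ X (Xᘁ) ▷ X₁ ≫ (X ⊗ Xᘁ) ◁ i) ⊗≫ X ◁ ε_ X (Xᘁ) ⊗≫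
            p ▷ 𝟙_ A ⊗≫ 𝟙 _ := by
          rw [← whisker_exchange]; monoidal
      _ = 𝟙 _ ⊗≫ (𝟙_ A) ◁ i ⊗≫ (η_ X (Xᘁ) ▷ X ⊗≫ X ◁ ε_ X (Xᘁ)) ⊗≫
            p ▷ 𝟙_ A ⊗≫ 𝟙 _ := by
          rw [← whisker_exchange]; monoidal
      _ = 𝟙 _ ⊗≫ (i ≫ p) ⊗≫ 𝟙 _ := by
          rw [ExactPairing.evaluation_coevaluation'']; monoidal
      _ = _ := by rw [hip]; monoidal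

end Groth.Agent.MonoidalDual.Retract
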